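import Cfsg.Agent.H989.TW.Herm
import Cfsg.Agent.LieClassical.HermPerfect
import Cfsg.Agent.S0281
import Cfsg.Agent.S0283
import Cfsg.Agent.SignalizersComponents.SLQuasisimple

/-!
# S3694, T4 : the simple factors of an invariant subalgebra, unitary case (helper989)

* `quasi_su` : `SU_w(s)` is quasisimple, `w ≥ 2`, `(w, s) ≠ (2,2), (2,3), (3,2)`;
* `lift_su` : a homomorphism of a perfect group into the unitary matrices gives one into `SU`;
* `no_swap` : the case `e* ≠ e`;
* `comp_su`.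
-/

set_option autoImplicit false

namespace Cfsg.Agent.H989.TW

open Subgroup Cfsg Cfsg.Agent.H607.TW

universe u v

section Quasi

variable {F : Type} [Field F] [Fintype F] {n q : ℕ}

theorem exists_field (hF : Fintype.card F = q ^ 2) :
    ∃ (K : Type) (_ : Field K) (_ : Fintype K), Fintype.card K = q := by
  obtain ⟨p, hp⟩ := CharP.exists F
  have := Fact.mk (CharP.char_is_prime F p)
  obtain ⟨k, hk0, hk⟩ := Cfsg.Agent.H155.Unit.exists_pow hF p
  have : Finite (GaloisField p k) := inferInstance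
  have h1 : Nat.card (GaloisField p k) = q := by rw [GaloisField.card p k hk0.ne', hk]
  let _ : Fintype (GaloisField p k) := Fintype.ofFinite _
  exact ⟨GaloisField p k, inferInstance, inferInstance, by rw [← Nat.card_eq_fintype_card, h1]⟩

/-- `SU_w(s)` is quasisimple for `w ≥ 2`, `(w, s) ≠ (2,2), (2,3), (3,2)`. -/
theorem quasi_su {w s : ℕ} (hF : Fintype.card F = s ^ 2) (hw : 2 ≤ w) (h2 : w = 2 → 4 ≤ s)
    (h3 : ¬ (w = 3 ∧ s = 2)) : IsQuasisimple (SU w F s) := by
  rcases Nat.lt_or_ge 2 w with h | h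
  · exact ⟨⟨Cfsg.Agent.LieClassical.HermPerfect.commutator_SU_eq_top hF h h3⟩, Cfsg.Agent.S0283.result hF w h h3⟩
  · obtain rfl : w = 2 := le_antisymm h hw
    obtain ⟨K, _, _, hK⟩ := exists_field hF
    obtain ⟨e⟩ := Cfsg.Agent.S0281.result hF hK
    refine Cfsg.Agent.SignalizersComponents.Components.isQuasisimple_of_mulEquiv e.symm ?_
    exact Cfsg.Agent.SignalizersComponents.SLQuasisimple.isQuasisimple_two
      (by rw [Nat.card_eq_fintype_card, hK]; exact h2 rfl)

theorem perfect_hom {X : Type*} [Group X] (hX : Group.IsPerfect X) {M : Type*} [CommMonoid M] (f : X →* M) (x : X) :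
    f x = 1 := by
  have h1 : commutator X ≤ f.toHomUnits.ker := Abelianization.commutator_subset_ker _
  have hx : x ∈ commutator X := by rw [hX.commutator_eq_top]; exact mem_top x
  have h2 := h1 hx
  rw [MonoidHom.mem_ker] at h2
  exact congrArg Units.val h2

omit [Fintype F] in
/-- a homomorphism of a perfect group into the unitary matrices gives one into `SU` -/
theorem lift_su {σ : F ≃+* F} (hσ : ∀ c, σ c = c ^ q) {X : Type v} [Group X] (hX : Group.IsPerfect X)
    (ψ₁ : X →* Matrix (Fin n) (Fin n) F) (h : ∀ x, st σ (ψ₁ x) * ψ₁ x = 1) :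
    ∃ ψ : X →* ↥(SU n F q), ∀ x, mt (iSU n F q) (ψ x) = ψ₁ x := by
  have hinj : Function.Injective (iSU n F q) := by
    intro a b hab
    apply Subtype.ext
    apply Subtype.ext
    exact congrArg Units.val hab
  have h1 : ∀ x, ∃ s : ↥(SU n F q), mt (iSU n F q) s = ψ₁ x := by
    intro x
    refine exists_su hσ (h x) ?_
    exact perfect_hom hX ((Matrix.detMonoidHom).comp ψ₁) x
  choose f hf using h1
  refine ⟨MonoidHom.mk' f fun x y => mt_inj hinj ?_, hf⟩
  rw [hf, mt_mul, hf, hf, map_mul]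

end Quasi

section Center

variable {L : Type} [Field L] {w : ℕ}

theorem center_scalar {m : Matrix (Fin w) (Fin w) L} (h : ∀ x, m * x = x * m) :
    ∃ c : L, m = c • (1 : Matrix (Fin w) (Fin w) L) := by
  have h3 : m ∈ Subalgebra.center L (Matrix (Fin w) (Fin w) L) := by
    rw [Subalgebra.mem_center_iff]
    intro y
    exact (h y).symm
  have h4 := (Algebra.IsCentral.center_eq_bot L (Matrix (Fin w) (Fin w) L)) ▸ h3
  obtain ⟨c, hc⟩ := Algebra.mem_bot.1 h4
  exact ⟨c, by rw [← hc, Algebra.algebraMap_eq_smul_one]⟩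

theorem smul_one_inj (hw : 0 < w) {c d : L} (h : c • (1 : Matrix (Fin w) (Fin w) L) = d • (1 : Matrix (Fin w) (Fin w) L)) :
    c = d := by
  have := congrFun (congrFun h ⟨0, hw⟩) ⟨0, hw⟩
  simpa using this

end Center

section Comp

variable {F : Type} [Field F] [Fintype F] {n q : ℕ}
variable {G : Type u} [Group G] [Finite G] {N A : Subgroup G} {r : ℕ}
variable {E : Subalgebra F (Matrix (Fin n) (Fin n) F)} {L : Type} [Field L] {w : ℕ}
  {φ : Matrix (Fin w) (Fin w) L →ₙ+* Matrix (Fin n) (Fin n) F} {σ : F ≃+* F}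

/-- The case `e* ≠ e`. -/
theorem no_swap {π : ↥(SU n F q) →* G} (h : Loc N A r) (hM : Model N (iSU n F q) π) (hσ : ∀ c, σ c = c ^ q)
    (hE : Inv (iSU n F q) π A E) (hne : E ≠ ⊤) (hst : ∀ x ∈ E, st σ x ∈ E) (hσ2 : ∀ c, σ (σ c) = c)
    (hφ : Function.Injective φ)
    (hr : ∀ x, (∃ m, φ m = x) ↔ x ∈ E ∧ φ 1 * x = x) (hc : ∀ x ∈ E, φ 1 * x = x * φ 1)
    (hX : IsQuasisimple (Matrix.SpecialLinearGroup (Fin w) L)) (hef : φ 1 * st σ (φ 1) = 0) : False := by
  set e := φ 1 with he
  set f := st σ e with hf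
  have hee : e * e = e := by rw [he, ← map_mul, one_mul]
  have heφ : ∀ m, e * φ m = φ m := fun m => by rw [he, ← map_mul, one_mul]
  have hφe : ∀ m, φ m * e = φ m := fun m => by rw [he, ← map_mul, mul_one]
  have hφE : ∀ m, φ m ∈ E := fun m => ((hr _).1 ⟨m, rfl⟩).1
  have heE : e ∈ E := hφE 1
  have hfE : f ∈ E := hst e heE
  have hfe : f * e = 0 := by rw [← hc f hfE, hef]
  have hcf : ∀ x ∈ E, f * x = x * f := by
    intro x hx
    have h1 := hc _ (hst x hx)
    have h2 := congrArg (st σ) h1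
    rw [st_mul, st_mul, st_st hσ2] at h2
    exact h2.symm
  have hff : f * f = f := by rw [hf, ← st_mul, hee]
  have hsφf : ∀ m, st σ (φ m) * f = st σ (φ m) := fun m => by rw [hf, ← st_mul, heφ]
  have hfsφ : ∀ m, f * st σ (φ m) = st σ (φ m) := fun m => by rw [hf, ← st_mul, hφe]
  have hφf : ∀ m, φ m * f = 0 := fun m => by rw [← hφe m, mul_assoc, hef, mul_zero]
  have hfφ : ∀ m, f * φ m = 0 := fun m => by rw [← heφ m, ← mul_assoc, hfe, zero_mul]
  have hsφe : ∀ m, st σ (φ m) * e = 0 := fun m => by rw [← hsφf m, mul_assoc, hfe, mul_zero]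
  have hesφ : ∀ m, e * st σ (φ m) = 0 := fun m => by rw [← hfsφ m, ← mul_assoc, hef, zero_mul]
  have hφsφ : ∀ m m', φ m * st σ (φ m') = 0 := fun m m' => by rw [← hφe m, mul_assoc, hesφ, mul_zero]
  have hsφφ : ∀ m m', st σ (φ m) * φ m' = 0 := fun m m' => by rw [← hsφf m, mul_assoc, hfφ, mul_zero]
  set g := 1 - e - f with hg
  have hφg : ∀ m, φ m * g = 0 := fun m => by rw [hg, mul_sub, mul_sub, mul_one, hφe, hφf, sub_self, sub_zero]
  have hgφ : ∀ m, g * φ m = 0 := fun m => by rw [hg, sub_mul, sub_mul, one_mul, heφ, hfφ, sub_self, sub_zero]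
  have hsφg : ∀ m, st σ (φ m) * g = 0 := fun m => by rw [hg, mul_sub, mul_sub, mul_one, hsφe, hsφf, sub_zero, sub_self]
  have hgsφ : ∀ m, g * st σ (φ m) = 0 := fun m => by rw [hg, sub_mul, sub_mul, one_mul, hesφ, hfsφ, sub_zero, sub_self]
  have hgg : g * g = g := by
    have h1 : e * g = 0 := hφg 1
    have h2 : f * g = 0 := hsφg 1
    conv_lhs => rw [hg]
    rw [sub_mul, sub_mul, h1, h2, one_mul, sub_zero, sub_zero]
  have hgE : g ∈ E := sub_mem (sub_mem (one_mem E) heE) hfE
  have hgc : ∀ x ∈ E, g * x = x * g := by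
    intro x hx
    rw [hg, sub_mul, sub_mul, mul_sub, mul_sub, one_mul, mul_one, hc x hx, hcf x hx]
  let ψ₁ : Matrix.SpecialLinearGroup (Fin w) L →* Matrix (Fin n) (Fin n) F :=
    { toFun := fun s => φ (s : Matrix (Fin w) (Fin w) L) + st σ (φ ((s⁻¹ : Matrix.SpecialLinearGroup (Fin w) L) :
        Matrix (Fin w) (Fin w) L)) + g
      map_one' := by
        rw [inv_one, Matrix.SpecialLinearGroup.coe_one, ← he, ← hf, hg]
        abel
      map_mul' := by
        intro s t
        rw [mul_inv_rev, Matrix.SpecialLinearGroup.coe_mul, Matrix.SpecialLinearGroup.coe_mul, map_mul, map_mul, st_mul]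
        simp only [add_mul, mul_add, hφsφ, hsφφ, hφg, hgφ, hsφg, hgsφ, hgg, add_zero, zero_add] }
  have hψ₁ : ∀ s : Matrix.SpecialLinearGroup (Fin w) L, ψ₁ s = φ (s : Matrix (Fin w) (Fin w) L) +
      st σ (φ ((s⁻¹ : Matrix.SpecialLinearGroup (Fin w) L) : Matrix (Fin w) (Fin w) L)) + g := fun s => rfl
  have hsg : st σ g = g := by
    rw [hg, st_sub, st_sub, st_one, ← hf]
    have : st σ f = e := by rw [hf, st_st hσ2]
    rw [this]; abel
  have hsψ : ∀ s, st σ (ψ₁ s) = ψ₁ s⁻¹ := by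
    intro s
    rw [hψ₁, hψ₁, st_add, st_add, hsg, st_st hσ2, inv_inv]
    abel
  obtain ⟨ψ, hψ⟩ := lift_su (n := n) hσ hX.1 ψ₁ (fun x => by rw [hsψ, ← map_mul, inv_mul_cancel, map_one])
  have heψ : ∀ s, e * ψ₁ s = φ (s : Matrix (Fin w) (Fin w) L) := by
    intro s
    have h1 : e * g = 0 := hφg 1
    rw [hψ₁, mul_add, mul_add, heφ, hesφ, h1, add_zero, add_zero]
  refine no_comp h hM hE hne hX ψ ?_ ?_ ?_
  · intro x
    rw [hψ, hψ₁]
    exact add_mem (add_mem (hφE _) (hst _ (hφE _))) hgE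
  · intro x y hxy
    have h1 : ψ₁ x = ψ₁ y := by rw [← hψ, hxy, hψ]
    have h2 : φ (x : Matrix (Fin w) (Fin w) L) = φ (y : Matrix (Fin w) (Fin w) L) := by rw [← heψ, h1, heψ]
    exact Subtype.ext (hφ h2)
  · intro s hs x
    set T := mt (iSU n F q) s with hT
    have hT' : mt (iSU n F q) s⁻¹ = st σ T := mt_inv hσ s
    have hT'E : st σ T ∈ E := hst _ hs
    have hTT' : T * st σ T = 1 := by rw [← hT', hT, mt_mul_inv]
    obtain ⟨a, ha⟩ := (hr (e * T)).2 ⟨mul_mem heE hs, by rw [← mul_assoc, hee]⟩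
    obtain ⟨a', ha'⟩ := (hr (e * st σ T)).2 ⟨mul_mem heE hT'E, by rw [← mul_assoc, hee]⟩
    have haa' : a * a' = 1 := by
      apply hφ
      rw [map_mul, ha, ha', ← he]
      calc e * T * (e * st σ T) = e * (T * e) * st σ T := by simp only [mul_assoc]
        _ = e * (e * T) * st σ T := by rw [hc T hs]
        _ = (e * e) * (T * st σ T) := by simp only [mul_assoc]
        _ = e := by rw [hTT', mul_one, hee]
    have ha'a : a' * a = 1 := mul_eq_one_comm.1 haa'
    have hdet : a.det * a'.det = 1 := by rw [← Matrix.det_mul, haa', Matrix.det_one]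
    have hdy : ∀ z : Matrix.SpecialLinearGroup (Fin w) L, (a * (z : Matrix (Fin w) (Fin w) L) * a').det = 1 := by
      intro z
      rw [Matrix.det_mul, Matrix.det_mul, z.det_coe, mul_one, hdet]
    let y : Matrix.SpecialLinearGroup (Fin w) L → Matrix.SpecialLinearGroup (Fin w) L := fun z => ⟨_, hdy z⟩
    have hyc : ∀ z, ((y z : Matrix.SpecialLinearGroup (Fin w) L) : Matrix (Fin w) (Fin w) L) = a * z * a' := fun z => rfl
    have hyi : ∀ z, (y z)⁻¹ = y z⁻¹ := by
      intro z
      apply inv_eq_of_mul_eq_one_right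
      apply Subtype.ext
      change ((y z * y z⁻¹ : Matrix.SpecialLinearGroup (Fin w) L) : Matrix (Fin w) (Fin w) L) =
        ((1 : Matrix.SpecialLinearGroup (Fin w) L) : Matrix (Fin w) (Fin w) L)
      rw [Matrix.SpecialLinearGroup.coe_mul, hyc, hyc, Matrix.SpecialLinearGroup.coe_one]
      calc a * (z : Matrix (Fin w) (Fin w) L) * a' * (a * ((z⁻¹ : Matrix.SpecialLinearGroup (Fin w) L) :
            Matrix (Fin w) (Fin w) L) * a') = a * ((z : Matrix (Fin w) (Fin w) L) * (a' * a) *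
            ((z⁻¹ : Matrix.SpecialLinearGroup (Fin w) L) : Matrix (Fin w) (Fin w) L)) * a' := by simp only [mul_assoc]
        _ = 1 := by
          rw [ha'a, mul_one, ← Matrix.SpecialLinearGroup.coe_mul, mul_inv_cancel, Matrix.SpecialLinearGroup.coe_one,
            mul_one, haa']
    have hφc : ∀ m, φ (a * m * a') = T * φ m * st σ T := by
      intro m
      rw [map_mul, map_mul, ha, ha']
      calc e * T * φ m * (e * st σ T) = (e * T) * (φ m * e) * st σ T := by simp only [mul_assoc]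
        _ = T * (e * φ m) * st σ T := by rw [hφe, hc T hs, mul_assoc T e]
        _ = _ := by rw [heφ]
    refine ⟨y x, mt_inj hM.inj ?_⟩
    rw [mt_mul, mt_mul, hT', hψ, hψ, hψ₁, hψ₁, hyi, hyc, hyc, hφc, hφc, st_mul, st_mul, st_st hσ2]
    rw [mul_add, mul_add, add_mul, add_mul, ← mul_assoc T (st σ (φ _)) (st σ T)]
    rw [← hgc T hs, mul_assoc g, hTT', mul_one]

/-- **The simple factors of a proper invariant subalgebra.** -/
theorem comp_su {q : ℕ} (hF : Fintype.card F = q ^ 2) {π : ↥(Cfsg.SU n F q) →* G} (_hn : 3 ≤ n) (h : Loc N A r)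
    (hM : Model N (iSU n F q) π)
    (E : Subalgebra F (Matrix (Fin n) (Fin n) F)) (hE : Inv (iSU n F q) π A E) (hne : E ≠ ⊤)
    (L : Type) [Field L] (w : ℕ) (φ : Matrix (Fin w) (Fin w) L →ₙ+* Matrix (Fin n) (Fin n) F) (hφ : Function.Injective φ)
    (hr : ∀ x, (∃ m, φ m = x) ↔ x ∈ E ∧ φ 1 * x = x) (hc : ∀ x ∈ E, φ 1 * x = x * φ 1) :
    w ≤ 1 ∨ (((φ 1).map (fun c => c ^ q)).transpose = φ 1 ∧ Nat.card L = Nat.card F ∧
      ((w = 2 ∧ (q = 2 ∨ q = 3)) ∨ (w = 3 ∧ q = 2))) := by
  classical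
  by_cases hw : w ≤ 1
  · exact Or.inl hw
  push Not at hw
  right
  have hw0 : 0 < w := by omega
  obtain ⟨σ, hσ, hσ2, c0, hc0⟩ := exists_sig hF
  have hst : ∀ x ∈ E, st σ x ∈ E := by
    intro x hx
    have h1 := hE 1 (one_mem A) _ (star_su π hσ) x hx
    rwa [tauM_one] at h1
  have hq2 := Cfsg.Agent.ClassicalGeometry.GUBasic.two_le hF
  have hee : φ 1 * φ 1 = φ 1 := by rw [← map_mul, one_mul]
  have heφ : ∀ m, φ 1 * φ m = φ m := fun m => by rw [← map_mul, one_mul]
  have hφe : ∀ m, φ m * φ 1 = φ m := fun m => by rw [← map_mul, mul_one]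
  have hφE : ∀ m, φ m ∈ E := fun m => ((hr _).1 ⟨m, rfl⟩).1
  have heE : φ 1 ∈ E := hφE 1
  have hfinM : Finite (Matrix (Fin w) (Fin w) L) := Finite.of_injective φ hφ
  have hfinL : Finite L := Finite.of_injective (fun c : L => c • (1 : Matrix (Fin w) (Fin w) L)) fun c d hcd =>
    smul_one_inj hw0 hcd
  -- the field `F` in `L`
  have hlam : ∀ c : F, ∃ l : L, φ (l • (1 : Matrix (Fin w) (Fin w) L)) = c • φ 1 := by
    intro c
    obtain ⟨m, hm⟩ := (hr (c • φ 1)).2 ⟨Subalgebra.smul_mem _ heE c, by rw [mul_smul_comm, hee]⟩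
    obtain ⟨l, hl⟩ := center_scalar (m := m) (fun x => hφ (by
      rw [map_mul, map_mul, hm, smul_mul_assoc, mul_smul_comm, heφ, hφe]))
    exact ⟨l, by rw [← hl, hm]⟩
  choose lam hlam using hlam
  have he0 : φ 1 ≠ 0 := by
    intro h0
    have h1 : (1 : Matrix (Fin w) (Fin w) L) = 0 := hφ (by rw [h0, map_zero])
    have := congrFun (congrFun h1 ⟨0, hw0⟩) ⟨0, hw0⟩
    simp at this
  have hlami : Function.Injective lam := by
    intro c d hcd
    have h1 := hlam c
    rw [hcd, hlam d, ← sub_eq_zero, ← sub_smul, smul_eq_zero] at h1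
    rcases h1 with h1 | h1
    · exact (sub_eq_zero.1 h1).symm
    · exact absurd h1 he0
  have hcardle : Nat.card F ≤ Nat.card L := Nat.card_le_card_of_injective lam hlami
  have hcF : Nat.card F = q ^ 2 := by rw [Nat.card_eq_fintype_card, hF]
  have h4F : 4 ≤ Nat.card L := by nlinarith
  have hSLq : IsQuasisimple (Matrix.SpecialLinearGroup (Fin w) L) := by
    rcases Nat.lt_or_ge 2 w with h3 | h3
    · exact Cfsg.Agent.SignalizersComponents.SLQuasisimple.isQuasisimple_of_three_le (by rw [Fintype.card_fin]; exact h3)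
    · obtain rfl : w = 2 := by omega
      exact Cfsg.Agent.SignalizersComponents.SLQuasisimple.isQuasisimple_two h4F
  -- `e * e*`
  have hfE : st σ (φ 1) ∈ E := hst _ heE
  have hstf : st σ (φ 1) = φ 1 := by
    obtain ⟨m, hm⟩ := (hr (φ 1 * st σ (φ 1))).2 ⟨mul_mem heE hfE, by rw [← mul_assoc, hee]⟩
    have hcf : ∀ x ∈ E, st σ (φ 1) * x = x * st σ (φ 1) := by
      intro x hx
      have h1 := hc _ (hst x hx)
      have h2 := congrArg (st σ) h1
      rw [st_mul, st_mul, st_st hσ2] at h2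
      exact h2.symm
    obtain ⟨l, hl⟩ := center_scalar (m := m) (fun x => hφ (by
      rw [map_mul, map_mul, hm, mul_assoc, hcf _ (hφE x), ← mul_assoc, heφ, ← mul_assoc, hφe]))
    have hmm : m * m = m := hφ (by
      rw [map_mul, hm]
      calc φ 1 * st σ (φ 1) * (φ 1 * st σ (φ 1)) = φ 1 * (st σ (φ 1) * φ 1) * st σ (φ 1) := by simp only [mul_assoc]
        _ = (φ 1 * φ 1) * (st σ (φ 1) * st σ (φ 1)) := by rw [hcf _ heE]; simp only [mul_assoc]
        _ = _ := by rw [hee, ← st_mul, hee])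
    have hll : l * l = l := by
      apply smul_one_inj hw0
      rw [hl, smul_mul_smul_comm, one_mul] at hmm
      exact hmm
    have hl01 : l = 0 ∨ l = 1 := by
      have h1 : l * (l - 1) = 0 := by rw [mul_sub, hll, mul_one, sub_self]
      rcases mul_eq_zero.1 h1 with h1 | h1
      · exact Or.inl h1
      · exact Or.inr (sub_eq_zero.1 h1)
    rcases hl01 with h0 | h0
    · exfalso
      rw [h0, zero_smul] at hl
      rw [hl, map_zero] at hm
      exact no_swap h hM hσ hE hne hst hσ2 hφ hr hc hSLq hm.symm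
    · rw [h0, one_smul] at hl
      rw [hl] at hm
      have h1 := congrArg (st σ) hm
      rw [st_mul, st_st hσ2] at h1
      rw [h1, ← hm]
  have hres1 : ((φ 1).map (fun c => c ^ q)).transpose = φ 1 := by
    rw [← Matrix.transpose_map]
    conv_rhs => rw [← hstf]
    ext i j
    simp [st, hσ]
  refine ⟨hres1, ?_⟩
  -- the involution
  have hθ : ∀ m, ∃ m', φ m' = st σ (φ m) := by
    intro m
    refine (hr _).2 ⟨hst _ (hφE m), ?_⟩
    conv_lhs => rw [← hstf]
    rw [← st_mul, hφe]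
  choose θ hθ using hθ
  have hadd : ∀ x y, θ (x + y) = θ x + θ y := fun x y => hφ (by rw [hθ, map_add, map_add, st_add, hθ, hθ])
  have hmul : ∀ x y, θ (x * y) = θ y * θ x := fun x y => hφ (by rw [hθ, map_mul, map_mul, st_mul, hθ, hθ])
  have hθθ : ∀ x, θ (θ x) = x := fun x => hφ (by rw [hθ, hθ, st_st hσ2])
  have hτ0 : ∀ c : L, ∃ d : L, θ (c • (1 : Matrix (Fin w) (Fin w) L)) = d • (1 : Matrix (Fin w) (Fin w) L) := by
    intro c
    refine center_scalar fun x => ?_
    have h1 : (c • (1 : Matrix (Fin w) (Fin w) L)) * θ x = θ x * (c • (1 : Matrix (Fin w) (Fin w) L)) := by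
      rw [smul_mul_assoc, one_mul, mul_smul_comm, mul_one]
    have h2 := congrArg θ h1
    rw [hmul, hmul, hθθ] at h2
    exact h2.symm
  choose τ0 hτ0 using hτ0
  have hτ0τ0 : ∀ c, τ0 (τ0 c) = c := by
    intro c
    apply smul_one_inj hw0
    rw [← hτ0, ← hτ0, hθθ]
  let τ : L ≃+* L :=
    { toFun := τ0
      invFun := τ0
      left_inv := hτ0τ0
      right_inv := hτ0τ0
      map_mul' := fun c d => by
        apply smul_one_inj hw0
        rw [← hτ0]
        have h1 : ((c * d) • (1 : Matrix (Fin w) (Fin w) L)) = (c • (1 : Matrix (Fin w) (Fin w) L)) * (d • 1) := by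
          rw [smul_mul_smul_comm, one_mul]
        rw [h1, hmul, hτ0, hτ0, smul_mul_smul_comm, one_mul, mul_comm]
      map_add' := fun c d => by
        apply smul_one_inj hw0
        rw [← hτ0, add_smul, hadd, hτ0, hτ0, add_smul] }
  have hτ : ∀ c, θ (c • (1 : Matrix (Fin w) (Fin w) L)) = τ c • (1 : Matrix (Fin w) (Fin w) L) := hτ0
  have hτne : ∃ c, τ c ≠ c := by
    refine ⟨lam c0, fun h1 => ?_⟩
    have h2 : τ (lam c0) = lam (σ c0) := by
      apply smul_one_inj hw0
      apply hφ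
      rw [← hτ, hθ, hlam, hlam, st_smul, hstf]
    rw [h2] at h1
    exact hc0 (hlami h1)
  obtain ⟨hτ2, Q, Q', hQQ', hQ'Q, hQ⟩ := exists_Q hw0 hadd hmul hθθ hτ hτne
  let _ : Fintype L := Fintype.ofFinite L
  obtain ⟨s, hs, hτs⟩ := exists_frobenius hτne hτ2
  have hs2 := Cfsg.Agent.ClassicalGeometry.GUBasic.two_le hs
  have hcL : Nat.card L = s ^ 2 := by rw [Nat.card_eq_fintype_card, hs]
  -- the exceptional cases
  have hexc : (w = 2 ∧ s < 4) ∨ (w = 3 ∧ s = 2) := by
    by_contra hcon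
    push Not at hcon
    have hq : IsQuasisimple (SU w L s) := quasi_su hs hw (fun h2 => hcon.1 h2) (fun h3 => hcon.2 h3.1 h3.2)
    have h1e : ∀ m, φ m * (1 - φ 1) = 0 := fun m => by rw [mul_sub, mul_one, hφe, sub_self]
    have he1 : ∀ m, (1 - φ 1) * φ m = 0 := fun m => by rw [sub_mul, one_mul, heφ, sub_self]
    have hQm : ∀ a b, (Q * a * Q') * (Q * b * Q') = Q * (a * b) * Q' := by
      intro a b
      calc (Q * a * Q') * (Q * b * Q') = Q * a * (Q' * Q) * b * Q' := by simp only [mul_assoc]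
        _ = _ := by rw [hQ'Q, mul_one]; simp only [mul_assoc]
    let ψ₁ : ↥(SU w L s) →* Matrix (Fin n) (Fin n) F :=
      { toFun := fun x => φ (Q * mt (iSU w L s) x * Q') + (1 - φ 1)
        map_one' := by
          rw [mt_one, mul_one, hQQ']; abel
        map_mul' := by
          intro x y
          rw [mt_mul, ← hQm, map_mul]
          have h11 : (1 - φ 1) * (1 - φ 1) = 1 - φ 1 := by
            rw [mul_sub, mul_one, he1, sub_zero]
          simp only [add_mul, mul_add, h1e, he1, h11, add_zero, zero_add] }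
    have hψ₁ : ∀ x, ψ₁ x = φ (Q * mt (iSU w L s) x * Q') + (1 - φ 1) := fun x => rfl
    have hsψ : ∀ x, st σ (ψ₁ x) = ψ₁ x⁻¹ := by
      intro x
      rw [hψ₁, hψ₁, st_add, st_sub, st_one, hstf, ← hθ, hQ, mt_inv hτs]
    obtain ⟨ψ, hψ⟩ := lift_su (n := n) hσ hq.1 ψ₁ (fun x => by rw [hsψ, ← map_mul, inv_mul_cancel, map_one])
    have heψ : ∀ x, φ 1 * ψ₁ x = φ (Q * mt (iSU w L s) x * Q') := by
      intro x
      rw [hψ₁, mul_add, heφ, h1e, add_zero]
    have hinj : Function.Injective (iSU w L s) := by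
      intro a b hab
      apply Subtype.ext
      apply Subtype.ext
      exact congrArg Units.val hab
    have hQinj : ∀ a b, Q * a * Q' = Q * b * Q' → a = b := by
      intro a b hab
      have h1 := congrArg (fun z => Q' * z * Q) hab
      have h2 : ∀ a, Q' * (Q * a * Q') * Q = a := by
        intro a
        calc Q' * (Q * a * Q') * Q = (Q' * Q) * a * (Q' * Q) := by simp only [mul_assoc]
          _ = a := by rw [hQ'Q, one_mul, mul_one]
      simpa only [h2] using h1
    refine no_comp h hM hE hne hq ψ ?_ ?_ ?_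
    · intro x
      rw [hψ, hψ₁]
      exact add_mem (hφE _) (sub_mem (one_mem E) heE)
    · intro x y hxy
      have h1 : ψ₁ x = ψ₁ y := by rw [← hψ, hxy, hψ]
      have h2 := hφ (show φ (Q * mt (iSU w L s) x * Q') = φ (Q * mt (iSU w L s) y * Q') by rw [← heψ, h1, heψ])
      exact mt_inj hinj (hQinj _ _ h2)
    · intro t ht x
      set T := mt (iSU n F q) t with hT
      have hT' : mt (iSU n F q) t⁻¹ = st σ T := mt_inv hσ t
      have hT'E : st σ T ∈ E := hst _ ht
      have hTT' : T * st σ T = 1 := by rw [← hT', hT, mt_mul_inv]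
      obtain ⟨a, ha⟩ := (hr (φ 1 * T)).2 ⟨mul_mem heE ht, by rw [← mul_assoc, hee]⟩
      have ha' : φ (θ a) = φ 1 * st σ T := by
        rw [hθ, ha, hc T ht, st_mul, hstf]
      have haa' : a * θ a = 1 := by
        apply hφ
        rw [map_mul, ha, ha']
        calc φ 1 * T * (φ 1 * st σ T) = φ 1 * (T * φ 1) * st σ T := by simp only [mul_assoc]
          _ = φ 1 * (φ 1 * T) * st σ T := by rw [hc T ht]
          _ = (φ 1 * φ 1) * (T * st σ T) := by simp only [mul_assoc]
          _ = φ 1 := by rw [hTT', mul_one, hee]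
      -- `b = Q' a Q` is unitary
      obtain ⟨b, hb⟩ : ∃ b, b = Q' * a * Q := ⟨_, rfl⟩
      have hQb : Q * b * Q' = a := by
        rw [hb]
        calc Q * (Q' * a * Q) * Q' = (Q * Q') * a * (Q * Q') := by simp only [mul_assoc]
          _ = a := by rw [hQQ', one_mul, mul_one]
      have hQb' : Q * st τ b * Q' = θ a := by rw [← hQ, hQb]
      have hbb : b * st τ b = 1 := by
        apply hQinj
        rw [← hQm, hQb, hQb', haa', mul_one, hQQ']
      have hbb' : st τ b * b = 1 := mul_eq_one_comm.1 hbb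
      obtain ⟨y, hy⟩ : ∃ y : ↥(SU w L s), mt (iSU w L s) y = b * mt (iSU w L s) x * st τ b := by
        refine exists_su hτs ?_ ?_
        · rw [st_mul, st_mul, st_st hτ2]
          calc b * (st τ (mt (iSU w L s) x) * st τ b) * (b * mt (iSU w L s) x * st τ b) =
                b * (st τ (mt (iSU w L s) x) * (st τ b * b) * mt (iSU w L s) x) * st τ b := by simp only [mul_assoc]
            _ = 1 := by rw [hbb', mul_one, st_mt hτs, mul_one, hbb]
        · have h1 : (mt (iSU w L s) x).det = 1 := x.1.2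
          rw [Matrix.det_mul, Matrix.det_mul, h1, mul_one, ← Matrix.det_mul, hbb, Matrix.det_one]
      refine ⟨y, mt_inj hM.inj ?_⟩
      rw [mt_mul, mt_mul, hT', hψ, hψ, hψ₁, hψ₁, hy]
      have h1 : Q * (b * mt (iSU w L s) x * st τ b) * Q' = a * (Q * mt (iSU w L s) x * Q') * θ a := by
        rw [← hQb', ← hQm, ← hQm, hQb]
      have h2 : φ (a * (Q * mt (iSU w L s) x * Q') * θ a) = φ 1 * T * φ (Q * mt (iSU w L s) x * Q') * (φ 1 * st σ T) := by
        rw [map_mul, map_mul φ a, ha, ha']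
      rw [h1, h2, mul_add, add_mul]
      congr 1
      · set z := φ (Q * mt (iSU w L s) x * Q') with hz
        calc T * z * st σ T = T * (φ 1 * z) * st σ T := by rw [hz, heφ]
          _ = (T * φ 1) * (z * φ 1) * st σ T := by rw [hz, hφe]; simp only [mul_assoc]
          _ = φ 1 * T * z * (φ 1 * st σ T) := by rw [← hc T ht]; simp only [mul_assoc]
      · rw [mul_sub, mul_one, sub_mul, hTT', ← hc T ht, mul_assoc, hTT', mul_one]
  have hqs : q ≤ s := by
    rw [hcF, hcL] at hcardle
    exact (Nat.pow_le_pow_iff_left two_ne_zero).1 hcardle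
  -- `q = s`
  have hqse : q = s := by
    have h3 : ¬ (q = 2 ∧ s = 3) := by
      rintro ⟨h2, h3⟩
      have h4 : ((4 : ℕ) : L) = 0 := by
        have h5 : ((4 : ℕ) : F) = 0 := by
          have := FiniteField.cast_card_eq_zero F
          rwa [hF, h2] at this
        apply smul_one_inj hw0
        apply hφ
        rw [zero_smul, map_zero]
        have h6 : ∀ k : ℕ, φ (((k : ℕ) : L) • (1 : Matrix (Fin w) (Fin w) L)) = ((k : ℕ) : F) • φ 1 := by
          intro k
          induction k with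
          | zero => simp
          | succ k ih => push_cast; rw [add_smul, map_add, ih, one_smul, add_smul, one_smul]
        rw [h6, h5, zero_smul]
      have h9 : ((9 : ℕ) : L) = 0 := by
        have := FiniteField.cast_card_eq_zero L
        rwa [hs, h3] at this
      have h1 : (1 : L) = 0 := by
        have : (1 : L) = ((9 : ℕ) : L) - 2 * ((4 : ℕ) : L) := by norm_num
        rw [this, h9, h4]; ring
      exact one_ne_zero h1
    rcases hexc with ⟨-, h4⟩ | ⟨-, h4⟩
    · interval_cases s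
      · omega
      · rcases Nat.lt_or_ge q 3 with h5 | h5
        · exact absurd ⟨by omega, rfl⟩ h3
        · omega
    · omega
  refine ⟨by rw [hcF, hcL, hqse], ?_⟩
  rcases hexc with ⟨h2, h4⟩ | ⟨h2, h4⟩
  · exact Or.inl ⟨h2, by omega⟩
  · exact Or.inr ⟨h2, by omega⟩

end Comp

end Cfsg.Agent.H989.TW
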