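import Cfsg.Agent.H989.TW.Uni
import Cfsg.Agent.ClassicalGeometry.HermOrthonormal
import Cfsg.Agent.ClassicalGeometry.InvolutiveNorm
import Mathlib.LinearAlgebra.GeneralLinearGroup.AlgEquiv

/-!
# S3694, T4 : involutions of the second kind of `M_w(L)`, `L` finite (helper989)

* `exists_frobenius` : an involutory automorphism of a finite field is `a ↦ a ^ s`, `|L| = s ^ 2`;
* `herm_form` : a hermitian matrix `P` is `Q * Q*`;
* `exists_Q` : an involution of the second kind of `M_w(L)` is conjugate to the conjugate transpose.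
-/

set_option autoImplicit false

namespace Cfsg.Agent.H989.TW

open Cfsg.Agent.ClassicalGeometry
open scoped Matrix

section Frob

variable {F : Type} [Field F] [Fintype F]

theorem exists_frobenius {σ : F ≃+* F} (hne : ∃ c, σ c ≠ c) (hinv : ∀ a, σ (σ a) = a) :
    ∃ s : ℕ, Fintype.card F = s ^ 2 ∧ ∀ a, σ a = a ^ s := by
  obtain ⟨p, hp⟩ := CharP.exists F
  have : Fact p.Prime := ⟨CharP.char_is_prime F p⟩
  let _ : Algebra (ZMod p) F := ZMod.algebra F p
  let s : F →ₐ[ZMod p] F := { σ.toRingHom with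
    commutes' := fun r => by
      show σ (algebraMap (ZMod p) F r) = algebraMap (ZMod p) F r
      have : (σ.toRingHom.comp (algebraMap (ZMod p) F)) = algebraMap (ZMod p) F := Subsingleton.elim _ _
      exact RingHom.congr_fun this r }
  obtain ⟨k, hk⟩ := (FiniteField.bijective_frobeniusAlgHom_pow (ZMod p) F).2 s
  have hk' : ∀ a, σ a = a ^ p ^ (k : ℕ) := by
    intro a
    have h1 := DFunLike.congr_fun hk a
    simp only at h1
    rw [AlgHom.coe_pow, FiniteField.coe_frobeniusAlgHom, pow_iterate, ZMod.card] at h1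
    exact h1.symm
  have hcard : Fintype.card F = p ^ Module.finrank (ZMod p) F := by
    have := Module.card_eq_pow_finrank (K := ZMod p) (V := F)
    rwa [ZMod.card] at this
  have hsq : ∀ a : F, a ^ p ^ (2 * (k : ℕ)) = a := by
    intro a
    have h1 := hinv a
    rw [hk', hk', ← pow_mul, ← pow_add] at h1
    rw [two_mul]
    exact h1
  refine ⟨p ^ (k : ℕ), ?_, hk'⟩
  have h1 : (FiniteField.frobeniusAlgHom (ZMod p) F) ^ (2 * (k : ℕ)) = 1 := by
    apply AlgHom.ext
    intro a
    rw [AlgHom.coe_pow, FiniteField.coe_frobeniusAlgHom, pow_iterate, ZMod.card]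
    exact hsq a
  have h2 : Module.finrank (ZMod p) F ∣ 2 * (k : ℕ) := by
    have := orderOf_dvd_of_pow_eq_one h1
    rwa [FiniteField.orderOf_frobeniusAlgHom (ZMod p) F] at this
  have h3 : (k : ℕ) < Module.finrank (ZMod p) F := k.2
  have h4 : (k : ℕ) ≠ 0 := by
    intro h0
    obtain ⟨c, hc⟩ := hne
    apply hc
    rw [hk', h0]
    simp
  have h5 : 2 * (k : ℕ) = Module.finrank (ZMod p) F := by
    obtain ⟨j, hj⟩ := h2
    have h6 : j = 1 := by
      rcases j with _ | _ | j
      · omega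
      · rfl
      · nlinarith
    rw [hj, h6, mul_one]
  have h9 : p ^ (2 * (k : ℕ)) = p ^ Module.finrank (ZMod p) F := congrArg (fun t => p ^ t) h5
  rw [hcard, ← h9, mul_comm, pow_mul]

end Frob

section Form

variable {L : Type} [Field L] {w : ℕ} {σ : L ≃+* L}

/-- the sesquilinear form of a matrix -/
def sf (σ : L ≃+* L) (M : Matrix (Fin w) (Fin w) L) :
    (Fin w → L) →ₛₗ[(σ : L →+* L)] (Fin w → L) →ₗ[L] L :=
  LinearMap.mk₂'ₛₗ (σ : L →+* L) (RingHom.id L) (fun x y => (fun i => σ (x i)) ⬝ᵥ (M *ᵥ y))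
    (by
      intro x x' y
      have : (fun i => σ ((x + x') i)) = (fun i => σ (x i)) + fun i => σ (x' i) := by
        funext i; simp
      rw [this, add_dotProduct])
    (by
      intro c x y
      have : (fun i => σ ((c • x) i)) = σ c • fun i => σ (x i) := by
        funext i; simp
      rw [this, smul_dotProduct]; rfl)
    (by
      intro x y y'
      rw [Matrix.mulVec_add, dotProduct_add])
    (by
      intro c x y
      rw [Matrix.mulVec_smul, dotProduct_smul]; rfl)

theorem sf_apply (M : Matrix (Fin w) (Fin w) L) (x y : Fin w → L) :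
    sf σ M x y = (fun i => σ (x i)) ⬝ᵥ (M *ᵥ y) := rfl

/-- A hermitian matrix over a finite field is `Q * Q*`. -/
theorem herm_form [Finite L] (hne : ∃ c, σ c ≠ c) (hinv : ∀ a, σ (σ a) = a) {P M : Matrix (Fin w) (Fin w) L}
    (hPM : P * M = 1) (hP : st σ P = P) : ∃ Q Q' : Matrix (Fin w) (Fin w) L, Q * Q' = 1 ∧ Q' * Q = 1 ∧ P = Q * st σ Q := by
  have hMP : M * P = 1 := mul_eq_one_comm.1 hPM
  have hM : st σ M = M := by
    have h1 : st σ M * P = 1 := by
      have := congrArg (st σ) hPM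
      rwa [st_mul, hP, st_one] at this
    calc st σ M = st σ M * (P * M) := by rw [hPM, mul_one]
      _ = M := by rw [← mul_assoc, h1, one_mul]
  have hMs : ∀ i j, σ (M i j) = M j i := fun i j => congrFun (congrFun hM j) i
  have hσ' : (σ : L →+* L) ≠ RingHom.id L := by
    intro h
    obtain ⟨c, hc⟩ := hne
    exact hc (RingHom.congr_fun h c)
  have hS : (sf σ M).IsSymm := by
    constructor
    intro x y
    change σ (sf σ M x y) = sf σ M y x
    rw [sf_apply, sf_apply]
    simp only [dotProduct, Matrix.mulVec, map_sum, map_mul, Finset.mul_sum]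
    rw [Finset.sum_comm]
    refine Finset.sum_congr rfl fun i _ => Finset.sum_congr rfl fun j _ => ?_
    rw [hinv, hMs]
    ring
  have hB : (sf σ M).SeparatingLeft := by
    intro x hx
    have h1 : Matrix.vecMul (fun i => σ (x i)) M = 0 := by
      funext j
      have h2 := hx (Pi.single j 1)
      rw [sf_apply, Matrix.dotProduct_mulVec, dotProduct_single, mul_one] at h2
      exact h2
    have h3 : (fun i => σ (x i)) = 0 := by
      have h4 := congrArg (fun v => Matrix.vecMul v P) h1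
      simp only [Matrix.vecMul_vecMul, hMP, Matrix.vecMul_one, Matrix.zero_vecMul] at h4
      exact h4
    funext i
    have := congrFun h3 i
    exact (map_eq_zero σ).1 this
  obtain ⟨v, hv⟩ := HermOrthonormal.exists_orthonormal_family hσ' hinv (sf σ M) hS hB w (by simp)
  set T : Matrix (Fin w) (Fin w) L := Matrix.of fun k i => v i k with hT
  have h1 : st σ T * M * T = 1 := by
    ext i j
    have h2 := hv i j
    rw [sf_apply, Matrix.dotProduct_mulVec] at h2
    rw [Matrix.mul_apply, Matrix.one_apply, ← h2]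
    rfl
  have h2 : T * (st σ T * M) = 1 := mul_eq_one_comm.1 h1
  refine ⟨T, st σ T * M, h2, h1, ?_⟩
  calc P = T * (st σ T * M) * P := by rw [h2, one_mul]
    _ = T * st σ T * (M * P) := by simp only [mul_assoc]
    _ = T * st σ T := by rw [hMP, mul_one]

/-- Skolem-Noether -/
theorem exists_conj (φ : Matrix (Fin w) (Fin w) L ≃ₐ[L] Matrix (Fin w) (Fin w) L) :
    ∃ P P' : Matrix (Fin w) (Fin w) L, P * P' = 1 ∧ P' * P = 1 ∧ ∀ X, φ X = P * X * P' := by
  let l : Matrix (Fin w) (Fin w) L ≃ₐ[L] Module.End L (Fin w → L) := Matrix.toLinAlgEquiv'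
  obtain ⟨T, hT⟩ := AlgEquiv.eq_linearEquivConjAlgEquiv ((l.symm.trans φ).trans l)
  have hP : l (LinearMap.toMatrix' (T : (Fin w → L) →ₗ[L] (Fin w → L))) = (T : (Fin w → L) →ₗ[L] (Fin w → L)) := by
    change Matrix.toLin' (LinearMap.toMatrix' (T : (Fin w → L) →ₗ[L] (Fin w → L))) = _
    exact Matrix.toLin'_toMatrix' _
  have hP' : l (LinearMap.toMatrix' (T.symm : (Fin w → L) →ₗ[L] (Fin w → L))) = (T.symm : (Fin w → L) →ₗ[L] (Fin w → L)) := by
    change Matrix.toLin' (LinearMap.toMatrix' (T.symm : (Fin w → L) →ₗ[L] (Fin w → L))) = _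
    exact Matrix.toLin'_toMatrix' _
  refine ⟨LinearMap.toMatrix' (T : (Fin w → L) →ₗ[L] (Fin w → L)), LinearMap.toMatrix' (T.symm : (Fin w → L) →ₗ[L] (Fin w → L)),
    ?_, ?_, fun X => ?_⟩
  · rw [← LinearMap.toMatrix'_comp]
    simp
  · rw [← LinearMap.toMatrix'_comp]
    simp
  · apply l.injective
    have h1 := congrArg (fun g : Module.End L (Fin w → L) ≃ₐ[L] Module.End L (Fin w → L) => g (l X)) hT
    simp only [AlgEquiv.trans_apply, AlgEquiv.symm_apply_apply] at h1
    rw [h1, map_mul, map_mul, hP, hP']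
    rfl

/-- An involution of the second kind of `M_w(L)`, `L` finite, is conjugate to the conjugate transpose. -/
theorem exists_Q [Finite L] (hw : 0 < w) {θ : Matrix (Fin w) (Fin w) L → Matrix (Fin w) (Fin w) L}
    (hadd : ∀ x y, θ (x + y) = θ x + θ y) (hmul : ∀ x y, θ (x * y) = θ y * θ x) (hθ : ∀ x, θ (θ x) = x)
    (hτ : ∀ c, θ (c • (1 : Matrix (Fin w) (Fin w) L)) = σ c • (1 : Matrix (Fin w) (Fin w) L)) (hne : ∃ c, σ c ≠ c) :
    (∀ c, σ (σ c) = c) ∧ ∃ Q Q' : Matrix (Fin w) (Fin w) L, Q * Q' = 1 ∧ Q' * Q = 1 ∧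
      ∀ m, θ (Q * m * Q') = Q * st σ m * Q' := by
  have hinj : ∀ {c d : L}, c • (1 : Matrix (Fin w) (Fin w) L) = d • (1 : Matrix (Fin w) (Fin w) L) → c = d := by
    intro c d h
    have := congrFun (congrFun h ⟨0, hw⟩) ⟨0, hw⟩
    simpa using this
  have hinv : ∀ c, σ (σ c) = c := by
    intro c
    have h1 := hθ (c • (1 : Matrix (Fin w) (Fin w) L))
    rw [hτ, hτ] at h1
    exact hinj h1
  refine ⟨hinv, ?_⟩
  have hσ' : (σ : L →+* L) ≠ RingHom.id L := by
    intro h
    obtain ⟨c, hc⟩ := hne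
    exact hc (RingHom.congr_fun h c)
  let Θ : Matrix (Fin w) (Fin w) L ≃+* Matrix (Fin w) (Fin w) L :=
    { toFun := fun x => θ (st σ x)
      invFun := fun x => st σ (θ x)
      left_inv := fun x => by
        change st σ (θ (θ (st σ x))) = x
        rw [hθ, st_st hinv]
      right_inv := fun x => by
        change θ (st σ (st σ (θ x))) = x
        rw [st_st hinv, hθ]
      map_mul' := fun x y => by rw [st_mul, hmul]
      map_add' := fun x y => by rw [st_add, hadd] }
  have hΘ : ∀ c, Θ (algebraMap L _ c) = algebraMap L _ c := by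
    intro c
    change θ (st σ (algebraMap L _ c)) = _
    rw [Algebra.algebraMap_eq_smul_one, st_smul, st_one, hτ, hinv]
  obtain ⟨P, P', hPP', hP'P, hP⟩ := exists_conj (AlgEquiv.ofRingEquiv (f := Θ) hΘ)
  have hP2 : ∀ y, θ y = P * st σ y * P' := by
    intro y
    have := hP (st σ y)
    rw [← this]
    change θ y = θ (st σ (st σ y))
    rw [st_st hinv]
  have hsPP' : st σ P' * st σ P = 1 := by rw [← st_mul, hPP', st_one]
  have hsP'P : st σ P * st σ P' = 1 := by rw [← st_mul, hP'P, st_one]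
  -- `P = c P*`
  obtain ⟨c, hc⟩ : ∃ c : L, P * st σ P' = c • (1 : Matrix (Fin w) (Fin w) L) := by
    have h1 : ∀ y, (P * st σ P') * y = y * (P * st σ P') := by
      intro y
      have h2 := hθ y
      rw [hP2 y, hP2, st_mul, st_mul, st_st hinv] at h2
      -- P * (st P' * (y * st P)) * P' = y
      calc P * st σ P' * y = P * (st σ P' * (y * st σ P)) * P' * (P * st σ P') := by
            have : P * (st σ P' * (y * st σ P)) * P' * (P * st σ P') =
                P * st σ P' * y * (st σ P * (P' * P) * st σ P') := by simp only [mul_assoc]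
            rw [this, hP'P, mul_one, hsP'P, mul_one]
        _ = y * (P * st σ P') := by rw [h2]
    have h3 : P * st σ P' ∈ Subalgebra.center L (Matrix (Fin w) (Fin w) L) := by
      rw [Subalgebra.mem_center_iff]
      intro y
      exact (h1 y).symm
    have h4 := (Algebra.IsCentral.center_eq_bot L (Matrix (Fin w) (Fin w) L)) ▸ h3
    obtain ⟨c, hc⟩ := Algebra.mem_bot.1 h4
    exact ⟨c, by rw [← hc, Algebra.algebraMap_eq_smul_one]⟩
  have hPc : P = c • st σ P := by
    calc P = P * st σ P' * st σ P := by rw [mul_assoc, hsPP', mul_one]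
      _ = c • st σ P := by rw [hc, smul_mul_assoc, one_mul]
  have hP0 : P ≠ 0 := by
    intro h
    rw [h, zero_mul] at hPP'
    have := congrFun (congrFun hPP' ⟨0, hw⟩) ⟨0, hw⟩
    simp at this
  have hcc : c * σ c = 1 := by
    have h1 : st σ P = σ c • P := by
      conv_lhs => rw [hPc, st_smul, st_st hinv]
    have h2 : P = (c * σ c) • P := by
      rw [mul_smul, ← h1]; exact hPc
    have h3 : (1 - c * σ c) • P = 0 := by rw [sub_smul, one_smul, ← h2, sub_self]
    rcases smul_eq_zero.1 h3 with h4 | h4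
    · exact (sub_eq_zero.1 h4).symm
    · exact absurd h4 hP0
  obtain ⟨y, hy0, hy⟩ := InvolutiveNorm.exists_div_eq_of_mul_eq_one hσ' hinv hcc
  have hσy : σ y ≠ 0 := fun h => hy0 ((map_eq_zero σ).1 h)
  have hy' : c * σ y = y := by
    rw [hy]; exact div_mul_cancel₀ _ hσy
  -- `σ y • P` is hermitian
  have hH : st σ (σ y • P) = σ y • P := by
    rw [st_smul, hinv]
    conv_rhs => rw [hPc, smul_smul, mul_comm, hy']
  obtain ⟨Q, Q', hQQ', hQ'Q, hQ⟩ := herm_form hne hinv (P := σ y • P) (M := (σ y)⁻¹ • P')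
    (by rw [smul_mul_smul_comm, mul_inv_cancel₀ hσy, one_smul, hPP']) hH
  have hsQQ' : st σ Q' * st σ Q = 1 := by rw [← st_mul, hQQ', st_one]
  have hsQ'Q : st σ Q * st σ Q' = 1 := by rw [← st_mul, hQ'Q, st_one]
  have hM : (σ y)⁻¹ • P' = st σ Q' * Q' := by
    have h1 : (st σ Q' * Q') * (σ y • P) = 1 := by
      rw [hQ]
      calc st σ Q' * Q' * (Q * st σ Q) = st σ Q' * (Q' * Q) * st σ Q := by simp only [mul_assoc]
        _ = 1 := by rw [hQ'Q, mul_one, hsQQ']
    calc (σ y)⁻¹ • P' = (st σ Q' * Q') * (σ y • P) * ((σ y)⁻¹ • P') := by rw [h1, one_mul]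
      _ = st σ Q' * Q' := by
        rw [mul_assoc, smul_mul_smul_comm, mul_inv_cancel₀ hσy, one_smul, hPP', mul_one]
  refine ⟨Q, Q', hQQ', hQ'Q, fun m => ?_⟩
  have h5 : θ (Q * m * Q') = (σ y • P) * st σ (Q * m * Q') * ((σ y)⁻¹ • P') := by
    rw [hP2, smul_mul_assoc, smul_mul_smul_comm, mul_inv_cancel₀ hσy, one_smul]
  rw [h5, hQ, hM, st_mul, st_mul]
  calc Q * st σ Q * (st σ Q' * (st σ m * st σ Q)) * (st σ Q' * Q') =
        Q * (st σ Q * st σ Q') * st σ m * (st σ Q * st σ Q') * Q' := by simp only [mul_assoc]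
    _ = Q * st σ m * Q' := by rw [hsQ'Q, mul_one, mul_one]

end Form

end Cfsg.Agent.H989.TW
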